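import Cfsg.Agent.H287.Blk.Tool
import Cfsg.Agent.KFacts.HS.DFour
import Cfsg.Agent.CpAutHNFive.Main

/-!
# `HS` : an element of order five whose class function is not nilpotent modulo two (helper287)
-/

set_option autoImplicit false
set_option maxRecDepth 100000

open Cfsg

namespace Cfsg.Agent.H287.Blk.HS

open Cfsg.Agent.HN Cfsg.Agent.HN.Pres Cfsg.Agent.HN.HS100 Cfsg.Agent.HN.P1408 Cfsg.Agent.HN.H0Basic
open Cfsg.Agent.HN.Classes (t1 φ_hw_apply)
open Cfsg.Agent.KFacts.HS
open Cfsg.Agent.KFacts.HS.TwoB (g0 g0w vw g0_sq g0_mem_K)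
open Cfsg.Agent.KFacts.HS.DFour
open Cfsg.Agent.CpAutHNFive.HTab (w2)
open Cfsg.Agent.H652.Four

/-- the conjugating word -/
def cw : List ℕ := [3, 3, 1, 2, 1, 3]

/-- the word of the element of order five -/
def xw : List ℕ := cw ++ (w2 ++ iw cw)

/-- the word of the second involution -/
def sw : List ℕ := [3, 3, 1, 2, 1, 3, 3, 0, 3, 0, 3, 0, 2, 0, 2, 1, 3, 1, 3, 1, 3, 3, 0, 3, 0, 2, 2]

/-- the transversal -/
def kl : List (List ℕ) := [[], [0], [1], [2], [3], [0, 0], [0, 3], [1, 3], [2, 0], [2, 3], [3, 0], [3, 1], [3, 2],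
  [3, 3], [0, 0, 3], [0, 1, 3], [0, 2, 3], [0, 3, 1], [0, 3, 3], [1, 0, 3], [1, 1, 3], [1, 2, 3], [1, 3, 3],
  [2, 0, 3], [2, 1, 3], [2, 2, 3], [2, 3, 1], [2, 3, 3], [3, 0, 0], [3, 2, 0], [0, 0, 3, 1], [0, 2, 3, 1],
  [1, 0, 3, 1], [1, 2, 3, 1], [2, 0, 3, 1], [2, 2, 3, 1]]

/-- the words of the transversal -/
def kw (i : ℕ) : List ℕ := ((kl.getD i []).map vw).flatten

theorem hw_xw : hw xw = hw cw * hw w2 * (hw cw)⁻¹ := by
  rw [xw, hw_append, hw_append, hw_iw, mul_assoc]

theorem xK : hw xw ∈ K := mem_K_of_par (by decide) (by decide)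
theorem sK : hw sw ∈ K := mem_K_of_par (by decide) (by decide)
theorem kK (i : Fin 36) : hw (kw i) ∈ K := mem_K_of_par (by revert i; decide +kernel) (by revert i; decide +kernel)

theorem order_x : orderOf (hw xw) = 5 := by
  rw [hw_xw, ← CpAutHNFive.HFacts.order_w2]
  exact MulEquiv.orderOf_eq (MulAut.conj (hw cw)) (hw w2)

theorem x_g0 : eqt (xw ++ g0w) (g0w ++ xw) = true := by decide +kernel
theorem x_s : eqt (xw ++ sw) (sw ++ xw) = true := by decide +kernel
theorem s_g0 : eqt (sw ++ g0w) (g0w ++ sw) = true := by decide +kernel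
theorem s_s : eqt (sw ++ sw) [] = true := by decide +kernel
theorem k_g0 (i : Fin 36) : eqt (kw i ++ g0w) (g0w ++ kw i) = true := by revert i; decide +kernel

/-- the images of two points under the conjugates of `s` -/
theorem k_inj : ∀ i j : Fin 36,
    t1 (kw i ++ (sw ++ iw (kw i))) 0 = t1 (kw j ++ (sw ++ iw (kw j))) 0 →
    t1 (kw i ++ (sw ++ iw (kw i))) 11 = t1 (kw j ++ (sw ++ iw (kw j))) 11 → i = j := by decide +kernel

section

variable {L : Type*} [Group L] (D : KFacts.HS.Mod L)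

theorem pi_comm {u v : List ℕ} (hu : hw u ∈ K) (hv : hw v ∈ K) (h : eqt (u ++ v) (v ++ u) = true) :
    D.π ⟨hw u, hu⟩ * D.π ⟨hw v, hv⟩ = D.π ⟨hw v, hv⟩ * D.π ⟨hw u, hu⟩ := by
  rw [← map_mul, ← map_mul, pi_eq]
  have h1 := eqt_spec h
  rw [hw_append, hw_append] at h1
  exact h1

noncomputable def x : L := D.π ⟨hw xw, xK⟩
noncomputable def s : L := D.π ⟨hw sw, sK⟩
noncomputable def k (i : Fin 36) : L := D.π ⟨hw (kw i), kK i⟩

theorem xw_comm : x D * wB D = wB D * x D := pi_comm D xK g0_mem_K x_g0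
theorem xs_comm : x D * s D = s D * x D := pi_comm D xK sK x_s
theorem sw_comm : s D * wB D = wB D * s D := pi_comm D sK g0_mem_K s_g0
theorem kw_comm (i : Fin 36) : k D i * wB D = wB D * k D i := pi_comm D (kK i) g0_mem_K (k_g0 i)

theorem s_sq : s D * s D = 1 := by
  rw [s, ← map_mul, ← map_one D.π, pi_eq]
  have h1 := eqt_spec s_s
  rw [hw_append] at h1
  exact h1

theorem orderOf_x : orderOf (x D) = 5 := by
  have : Fact (Nat.Prime 5) := ⟨Nat.prime_five⟩
  have h5 : (hw xw) ^ 5 = 1 := by rw [← order_x, pow_orderOf_eq_one]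
  refine orderOf_eq_prime ?_ ?_
  · rw [x, ← map_pow, D.ker]
    exact Or.inl h5
  · intro h
    rcases (D.ker _).1 h with h1 | h1
    · change hw xw = 1 at h1
      have := order_x
      rw [h1, orderOf_one] at this
      omega
    · change hw xw = τ at h1
      rw [h1, pow_succ, pow_succ, pow_succ, pow_two, τ_mul_τ, one_mul, τ_mul_τ, one_mul] at h5
      exact τ_ne_one h5

theorem k_injective : Function.Injective fun i => k D i * s D * (k D i)⁻¹ := by
  intro i j hij
  change k D i * s D * (k D i)⁻¹ = k D j * s D * (k D j)⁻¹ at hij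
  have h1 : ∀ i : Fin 36, k D i * s D * (k D i)⁻¹ =
      D.π ⟨hw (kw i ++ (sw ++ iw (kw i))), by
        rw [hw_append, hw_append, hw_iw]
        exact mul_mem (kK i) (mul_mem sK (inv_mem (kK i)))⟩ := by
    intro i
    rw [k, s, ← map_inv, ← map_mul, ← map_mul]
    congr 1
    apply Subtype.ext
    change hw (kw i) * hw sw * (hw (kw i))⁻¹ = hw (kw i ++ (sw ++ iw (kw i)))
    rw [hw_append, hw_append, hw_iw, mul_assoc]
  rw [h1, h1, pi_eq] at hij
  have h2 := congrArg (fun p : Equiv.Perm (Fin 100) => ((p 0 : Fin 100) : ℕ)) hij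
  have h3 := congrArg (fun p : Equiv.Perm (Fin 100) => ((p 11 : Fin 100) : ℕ)) hij
  simp only [φ_hw_apply] at h2 h3
  exact k_inj i j h2 h3

theorem ne_of {u v : List ℕ} (hu : hw u ∈ K) (hv : hw v ∈ K) {p : Fin 100} (h : t1 u p ≠ t1 v p) :
    D.π ⟨hw u, hu⟩ ≠ D.π ⟨hw v, hv⟩ := by
  intro h1
  rw [pi_eq] at h1
  have h2 := congrArg (fun q : Equiv.Perm (Fin 100) => ((q p : Fin 100) : ℕ)) h1
  simp only [φ_hw_apply] at h2
  exact h h2

theorem s_ne : s D ≠ 1 := by
  have h1 : (1 : L) = D.π ⟨hw [], mem_K_of_par (by decide) (by decide)⟩ := by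
    rw [← map_one D.π]
    congr 1
  rw [h1]
  exact ne_of D sK _ (p := 0) (by decide +kernel)

theorem s_ne_wB : wB D ≠ s D := ne_of D g0_mem_K sK (p := 0) (by decide +kernel)

theorem card_cent : 36 * Nat.card ↥(Subgroup.centralizer ({wB D} : Set L) ⊓ Subgroup.centralizer ({s D} : Set L)) ≤
    2880 := by
  have := fin D
  exact (card_mul_le (k D) (fun i => Subgroup.mem_centralizer_singleton_iff.2 (kw_comm D i)) (k_injective D)).trans
    (card_C D)

theorem mem_of (g : L) (hg : g * wB D = wB D * g) (hs : g * s D = s D * g) (h5 : orderOf g = 5) :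
    g ∈ Subgroup.zpowers (x D) := by
  have := fin D
  have hle := card_cent D
  have h4 : 4 ∣ Nat.card ↥(Subgroup.centralizer ({wB D} : Set L) ⊓ Subgroup.centralizer ({s D} : Set L) ⊓
      Subgroup.centralizer ({x D} : Set L)) := by
    refine four_dvd _ (x := wB D) (y := s D) ?_ ?_ (wB_sq D) (s_sq D) (sw_comm D).symm (wB_ne D) (s_ne D) (s_ne_wB D)
    · exact ⟨⟨Subgroup.mem_centralizer_singleton_iff.2 rfl, Subgroup.mem_centralizer_singleton_iff.2 (sw_comm D).symm⟩,
        Subgroup.mem_centralizer_singleton_iff.2 (xw_comm D).symm⟩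
    · exact ⟨⟨Subgroup.mem_centralizer_singleton_iff.2 (sw_comm D), Subgroup.mem_centralizer_singleton_iff.2 rfl⟩,
        Subgroup.mem_centralizer_singleton_iff.2 (xs_comm D).symm⟩
  refine unique_five (C := Subgroup.centralizer ({wB D} : Set L) ⊓ Subgroup.centralizer ({s D} : Set L)) ?_
    (orderOf_x D) h4 (by omega) ?_ g ?_ h5
  · exact ⟨Subgroup.mem_centralizer_singleton_iff.2 (xw_comm D), Subgroup.mem_centralizer_singleton_iff.2 (xs_comm D)⟩
  · intro h25
    have h44 := h4.trans (Subgroup.card_dvd_of_le inf_le_left)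
    have hpos : 0 < Nat.card ↥(Subgroup.centralizer ({wB D} : Set L) ⊓ Subgroup.centralizer ({s D} : Set L)) :=
      Nat.card_pos
    omega
  · exact ⟨Subgroup.mem_centralizer_singleton_iff.2 hg, Subgroup.mem_centralizer_singleton_iff.2 hs⟩

theorem good : Good 5 (x D) := by
  have := fin D
  exact Good.of_two_inv (wB_sq D) (s_sq D) (sw_comm D).symm (by decide) (orderOf_x D) (xw_comm D) (xs_comm D) (mem_of D)

theorem le_map : Subgroup.centralizer ({x D} : Set L) ≤
    ((Subgroup.centralizer ({hw xw} : Set H0)).subgroupOf K).map D.π := by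
  intro l hl
  obtain ⟨k, rfl⟩ := D.surj l
  have h1 : D.π k * x D = x D * D.π k := Subgroup.mem_centralizer_singleton_iff.1 hl
  rw [x, ← map_mul, ← map_mul, pi_eq] at h1
  change φ ((k : H0) * hw xw) = φ (hw xw * k) at h1
  refine ⟨k, ?_, rfl⟩
  rw [SetLike.mem_coe, Subgroup.mem_subgroupOf, Subgroup.mem_centralizer_singleton_iff]
  rcases φ_eq_iff.1 h1 with h2 | h2
  · exact h2
  · exfalso
    have h5 : hw xw ^ 5 = 1 := by rw [← order_x, pow_orderOf_eq_one]
    have h4 : (k : H0) * hw xw * (k : H0)⁻¹ = hw xw * τ := by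
      rw [h2, mul_assoc (hw xw) (k : H0) τ, τ_comm (k : H0), ← mul_assoc, mul_inv_cancel_right]
    have h6 : ((k : H0) * hw xw * (k : H0)⁻¹) ^ 5 = 1 := by rw [conj_pow, h5, mul_one, mul_inv_cancel]
    have hcm : Commute (hw xw) τ := τ_comm _
    rw [h4, hcm.mul_pow, h5, one_mul, pow_succ, pow_succ, pow_succ, pow_two, τ_mul_τ, one_mul, τ_mul_τ, one_mul] at h6
    exact τ_ne_one h6

theorem not_dvd_H0 : ¬ 32 ∣ Nat.card ↥(Subgroup.centralizer ({hw xw} : Set H0)) := by
  have h1 : Nat.card ↥(Subgroup.centralizer ({hw xw} : Set H0)) = Nat.card ↥(Subgroup.centralizer ({hw w2} : Set H0)) := by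
    rw [hw_xw]
    exact (Nat.card_congr (CpAutHNFive.TauFive.cequiv (hw cw) (hw w2)).toEquiv).symm
  rw [h1]
  exact CpAutHNFive.HFacts.not_dvd_two

theorem not_dvd : ¬ 32 ∣ Nat.card ↥(Subgroup.centralizer ({x D} : Set L)) := by
  have := fin D
  have := finite_H0
  intro h
  apply not_dvd_H0
  have h1 := Subgroup.card_dvd_of_le (le_map D)
  have h2 := Subgroup.card_map_dvd ((Subgroup.centralizer ({hw xw} : Set H0)).subgroupOf K) D.π
  have h3 : Nat.card ↥((Subgroup.centralizer ({hw xw} : Set H0)).subgroupOf K) ∣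
      Nat.card ↥(Subgroup.centralizer ({hw xw} : Set H0)) := by
    rw [← Subgroup.inf_subgroupOf_right, Nat.card_congr (Subgroup.subgroupOfEquivOfLe inf_le_right).toEquiv]
    exact Subgroup.card_dvd_of_le inf_le_left
  exact h.trans (h1.trans (h2.trans h3))

include D in
theorem index : 4 ∣ (Subgroup.centralizer ({x D} : Set L)).index := by
  have := fin D
  refine four_dvd_index 4 ?_ (not_dvd D)
  rw [D.card]
  norm_num

end

end Cfsg.Agent.H287.Blk.HS

namespace Cfsg.Agent.H287.Blk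

open Cfsg.Agent.H652.Four

universe u

theorem loc_HS {S : Type u} [Group S] [Finite S] (h : Cfsg.Spor.IsoHS S) : Loc S := by
  obtain ⟨D⟩ := KFacts.HS.exists_mod h
  exact (HS.good D).loc (HS.orderOf_x D) (HS.index D)

end Cfsg.Agent.H287.Blk
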