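import Cfsg.Agent.H287.Blk.HS
import Cfsg.Agent.H287.HNa

/-!
# `HN` : an element of order five whose class function is not nilpotent modulo two (helper287)
-/

set_option autoImplicit false

open Cfsg

namespace Cfsg.Agent.H287.Blk.HNRow

open Cfsg.Agent.HN Cfsg.Agent.HN.Pres Cfsg.Agent.HN.HS100
open Cfsg.Agent.HN.P1408 hiding ψ
open Cfsg.Agent.HN.H0Basic
open Cfsg.Agent.HN.NormalH (ψ)
open Cfsg.Agent.KFacts.HN (emb)
open Cfsg.Agent.CpAutHNFive.HTab (w2)
open Cfsg.Agent.H652.Four

section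

variable {L : Type*} [Group L] (D : KFacts.HS.Mod L)

include D in
theorem conj_inj : Function.Injective (MulAut.conj : L →* MulAut L) := by
  rw [injective_iff_map_eq_one]
  intro l hl
  obtain ⟨k, rfl⟩ := D.surj l
  rw [← D.au_K, D.au_ker] at hl
  exact (D.ker k).2 hl

/-- `Good` in the group of automorphisms -/
theorem good_aut : Good 5 (MulAut.conj (HS.x D)) := by
  have := KFacts.HS.DFour.fin D
  have : Finite (MulAut L) := Finite.of_injective (fun f : MulAut L => (f : L → L)) DFunLike.coe_injective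
  have hN : ∀ g : MulAut L, orderOf g = 5 → g ∈ (MulAut.conj : L →* MulAut L).range := by
    intro g hg
    have h1 : g * g ∈ (MulAut.conj : L →* MulAut L).range := Subgroup.mul_self_mem_of_index_two D.index_inn g
    have h5 : g ^ 5 = 1 := by rw [← hg, pow_orderOf_eq_one]
    have h2 : (g * g) ^ 3 = g := by
      rw [← pow_two, ← pow_mul, (by norm_num : 2 * 3 = 5 + 1), pow_succ, h5, one_mul]
    rw [← h2]
    exact pow_mem h1 3
  have hn : (MulAut.conj : L →* MulAut L).range.Normal := Subgroup.normal_of_index_eq_two D.index_inn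
  let e : L ≃* ↥(MulAut.conj : L →* MulAut L).range := MonoidHom.ofInjective (conj_inj D)
  have h1 : Good 5 (e (HS.x D)) := by
    refine Good.congr e.symm ?_
    rw [e.symm_apply_apply]
    exact HS.good D
  exact Good.of_normal (N := (MulAut.conj : L →* MulAut L).range) hN h1

end

/-- the centralizer of `ψ τ` -/
theorem range_eq : ψ.range = Subgroup.centralizer ({ψ τ} : Set Spor.HN) := by
  ext g
  rw [Subgroup.mem_centralizer_singleton_iff]
  constructor
  · rintro ⟨h, rfl⟩
    rw [← map_mul, ← map_mul, τ_comm]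
  · intro h
    exact emb.cent g h

/-- `H0` is the centralizer -/
noncomputable def eH : H0 ≃* ↥(Subgroup.centralizer ({ψ τ} : Set Spor.HN)) :=
  (MonoidHom.ofInjective emb.inj).trans (MulEquiv.subgroupCongr range_eq)

theorem eH_coe (h : H0) : (eH h : Spor.HN) = ψ h := rfl

theorem good : Good 5 (ψ (hw HS.xw) : Spor.HN) := by
  obtain ⟨D⟩ := KFacts.HS.exists_mod (L := Spor.HS) ⟨MulEquiv.refl _⟩
  have : Finite Spor.HN := Nat.finite_of_card_ne_zero (by rw [KFacts.HN.Classes.card_HN]; norm_num)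
  refine Good.of_cent OutHN.orderOf_Q0 (D.au.comp eH.symm.toMonoidHom) ?_ ?_ (by decide) (x := eH (hw HS.xw)) ?_
  · intro g
    obtain ⟨h, rfl⟩ := D.au_surj g
    exact ⟨eH h, by simp⟩
  · intro c hc
    obtain ⟨h, rfl⟩ := eH.surjective c
    have h1 : D.au h = 1 := by simpa using hc
    rcases (D.au_ker h).1 h1 with h2 | h2
    · left; rw [h2, map_one]
    · right; rw [h2]; rfl
  · have h1 : (D.au.comp eH.symm.toMonoidHom) (eH (hw HS.xw)) = MulAut.conj (HS.x D) := by
      change D.au (eH.symm (eH (hw HS.xw))) = _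
      rw [eH.symm_apply_apply]
      exact D.au_K ⟨hw HS.xw, HS.xK⟩
    rw [h1]
    exact good_aut D

theorem orderOf_x : orderOf (ψ (hw HS.xw) : Spor.HN) = 5 := by
  rw [orderOf_injective ψ emb.inj]
  exact HS.order_x

theorem not_dvd : ¬ 32 ∣ Nat.card ↥(Subgroup.centralizer ({ψ (hw HS.xw)} : Set Spor.HN)) := by
  have h1 : ψ (hw HS.xw) = ψ (hw HS.cw) * ψ (hw w2) * (ψ (hw HS.cw))⁻¹ := by
    rw [HS.hw_xw, map_mul, map_mul, map_inv]
  have h2 : Nat.card ↥(Subgroup.centralizer ({ψ (hw HS.xw)} : Set Spor.HN)) =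
      Nat.card ↥(Subgroup.centralizer ({ψ (hw w2)} : Set Spor.HN)) := by
    rw [h1]
    exact (Nat.card_congr (CpAutHNFive.TauFive.cequiv (ψ (hw HS.cw)) (ψ (hw w2))).toEquiv).symm
  rw [h2]
  exact CpAutHNFive.Main.not32

theorem index : 4 ∣ (Subgroup.centralizer ({ψ (hw HS.xw)} : Set Spor.HN)).index := by
  have : Finite Spor.HN := Nat.finite_of_card_ne_zero (by rw [KFacts.HN.Classes.card_HN]; norm_num)
  refine four_dvd_index 4 ?_ not_dvd
  rw [KFacts.HN.Classes.card_HN]
  norm_num

end Cfsg.Agent.H287.Blk.HNRow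

namespace Cfsg.Agent.H287.Blk

open Cfsg.Agent.H652.Four

universe u

theorem loc_HN {S : Type u} [Group S] [Finite S] (h : Cfsg.Spor.IsoHN S) : Loc S := by
  obtain ⟨e⟩ := h
  exact HNRow.good.loc_of_equiv e HNRow.orderOf_x HNRow.index

end Cfsg.Agent.H287.Blk
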