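import Cfsg.Agent.H652.Four.Base

/-!
# Non-nilpotent classes of elements of odd order modulo two: going down to small subgroups (helper287)

`Good r x` : every class function `F`, supported on elements of order `r`, with values in the local ring and `F x` a
unit, satisfies `NN M F` (for all 2-modular `M`).

* `Good.loc` : `Good r x`, `orderOf x = r`, `4 ∣ |G : C(x)|` imply `Loc G`;
* `Good.of_cyclic` : the elements of order `r` of `C_G(P)` (`P` an abelian 2-subgroup) lie in `⟨x⟩`;
* `Good.of_cent` : `φ : C_G(w) → Q` with kernel `⟨w⟩`, `w` an involution, `Good r (φ x)` implies `Good r x`;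
* `Good.of_normal` : `x` in a normal subgroup `N` containing the elements of order `r`;
* `Good.congr` : isomorphisms.
-/

set_option autoImplicit false

open Cfsg

namespace Cfsg.Agent.H287.Blk

open Cfsg.Agent.Blocks.LocalRing
open Cfsg.Agent.Blocks
open Cfsg.Agent.H652.Four

universe u v

/-- a class function with values in the local ring, supported on the elements of order `r`, a unit at `x` -/
structure Fn {G : Type*} [Group G] (M : Ideal AlgInt) (r : ℕ) (F : G → ℂ) (x : G) : Prop where
  cls : ∀ g y : G, F (g * y * g⁻¹) = F y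
  ring : ∀ g, MemLocalRing M (F g)
  supp : ∀ g, F g ≠ 0 → orderOf g = r
  val : ¬ MemLocalIdeal M (F x)

/-- see the head of the file -/
def Good {G : Type*} [Group G] (r : ℕ) (x : G) : Prop :=
  ∀ M : Ideal AlgInt, IsPModular 2 M → ∀ F : G → ℂ, Fn M r F x → NN M F

theorem Fn.ne_zero {G : Type*} [Group G] {M : Ideal AlgInt} (hM : IsPModular 2 M) {r : ℕ} {F : G → ℂ} {x : G}
    (h : Fn M r F x) : F x ≠ 0 := by
  intro h0
  apply h.val
  rw [h0]
  exact memLocalIdeal_zero hM

theorem Fn.order {G : Type*} [Group G] {M : Ideal AlgInt} (hM : IsPModular 2 M) {r : ℕ} {F : G → ℂ} {x : G}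
    (h : Fn M r F x) : orderOf x = r := h.supp x (h.ne_zero hM)

theorem Good.loc {G : Type u} [Group G] {r : ℕ} {x : G} (h : Good r x) (hx : orderOf x = r)
    (h4 : 4 ∣ (Subgroup.centralizer ({x} : Set G)).index) : Loc G := by
  refine ⟨x, h4, fun M hM => h M hM (cl x) ⟨fun g y => cl_conj x y g, fun g => ?_, fun g hg => ?_, ?_⟩⟩
  · by_cases hg : IsConj x g
    · rw [cl_pos hg]
      have := memLocalRing_natCast hM 1
      simpa using this
    · rw [cl_neg hg]
      have := memLocalRing_natCast hM 0
      simpa using this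
  · by_cases hc : IsConj x g
    · obtain ⟨c, rfl⟩ := isConj_iff.1 hc
      rw [← hx]
      exact MulEquiv.orderOf_eq (MulAut.conj c) x
    · exact absurd (cl_neg hc) hg
  · rw [cl_pos (IsConj.refl x)]
    intro h1
    have h2 : MemLocalIdeal M ((1 : ℕ) : ℂ) := by simpa using h1
    rw [memLocalIdeal_natCast_iff hM] at h2
    omega

/-- from the 2-parts of `|G|` and `|C(x)|` -/
theorem four_dvd_index {G : Type u} [Group G] [Finite G] {x : G} (k : ℕ) (h : 2 ^ (k + 2) ∣ Nat.card G)
    (h' : ¬ 2 ^ (k + 1) ∣ Nat.card (Subgroup.centralizer ({x} : Set G))) :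
    4 ∣ (Subgroup.centralizer ({x} : Set G)).index := by
  have hc := Subgroup.card_mul_index (Subgroup.centralizer ({x} : Set G))
  set d := (Subgroup.centralizer ({x} : Set G)).index with hd
  by_contra h4
  apply h'
  rw [← hc] at h
  by_cases h2 : 2 ∣ d
  · obtain ⟨e, he⟩ := h2
    have he2 : ¬ 2 ∣ e := fun h3 => h4 (by rw [he]; exact mul_dvd_mul (dvd_refl 2) h3)
    rw [he, ← mul_assoc] at h
    have h5 : Nat.Coprime (2 ^ (k + 2)) e := Nat.Coprime.pow_left _ ((Nat.prime_two.coprime_iff_not_dvd).2 he2)
    have h6 := h5.dvd_of_dvd_mul_right h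
    rw [pow_succ 2 (k + 1)] at h6
    exact Nat.dvd_of_mul_dvd_mul_right (by norm_num) h6
  · have h5 : Nat.Coprime (2 ^ (k + 2)) d := Nat.Coprime.pow_left _ ((Nat.prime_two.coprime_iff_not_dvd).2 h2)
    exact dvd_trans (pow_dvd_pow 2 (Nat.le_succ _)) (h5.dvd_of_dvd_mul_right h)

/-- the elements of order `r` commuting with `P` lie in `⟨x⟩` -/
theorem Good.of_cyclic {G : Type u} [Group G] [Finite G] {P : Subgroup G} (hP : IsPGroup 2 P)
    (hPC : P ≤ Subgroup.centralizer (P : Set G)) {r : ℕ} (hr : Odd r) {x : G} (hx : orderOf x = r)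
    (hxP : x ∈ Subgroup.centralizer (P : Set G))
    (h : ∀ g ∈ Subgroup.centralizer (P : Set G), orderOf g = r → g ∈ Subgroup.zpowers x) : Good r x := by
  intro M hM F hF
  refine NN.brauer hM hP hPC hF.cls hF.ring ?_
  set H : Subgroup G := Subgroup.centralizer (P : Set G) with hH
  have hxz : ∀ k : ℤ, ∀ g ∈ H, g * x ^ k * g⁻¹ ∈ Subgroup.zpowers x := by
    intro k g hg
    have h1 : g * x * g⁻¹ ∈ Subgroup.zpowers x := by
      refine h _ (mul_mem (mul_mem hg hxP) (inv_mem hg)) ?_
      rw [← hx]
      exact MulEquiv.orderOf_eq (MulAut.conj g) x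
    rw [← conj_zpow]
    exact zpow_mem h1 k
  have hn : ((Subgroup.zpowers x).subgroupOf H).Normal := by
    constructor
    intro n hn g
    rw [Subgroup.mem_subgroupOf] at hn ⊢
    obtain ⟨k, hk⟩ := hn
    change x ^ k = (n : G) at hk
    have h1 : ((g * n * g⁻¹ : H) : G) = g * x ^ k * (g : G)⁻¹ := by rw [hk]; rfl
    rw [h1]
    exact hxz k g g.2
  refine NN.normal (N := (Subgroup.zpowers x).subgroupOf H) (fun g y => hF.cls g y) (fun g hg => ?_) ?_
  · by_contra h0
    exact hg (Subgroup.mem_subgroupOf.2 (h g g.2 (hF.supp g h0)))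
  · refine NN.of_not_dvd hM ?_ (fun g y => hF.cls _ _)
      (g₀ := ⟨⟨x, hxP⟩, Subgroup.mem_subgroupOf.2 (Subgroup.mem_zpowers x)⟩) hF.val
    have h1 : Nat.card ((Subgroup.zpowers x).subgroupOf H) = r := by
      rw [Nat.card_congr (Subgroup.subgroupOfEquivOfLe (Subgroup.zpowers_le.2 hxP)).toEquiv, Nat.card_zpowers, hx]
    rw [h1]
    exact hr.not_two_dvd_nat

/-- a normal subgroup containing the elements of order `r` -/
theorem Good.of_normal {G : Type u} [Group G] [Finite G] {N : Subgroup G} [N.Normal] {r : ℕ}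
    (hN : ∀ g : G, orderOf g = r → g ∈ N) {x : N} (h : Good r x) : Good r (x : G) := by
  intro M hM F hF
  refine NN.normal (N := N) hF.cls (fun g hg => ?_) ?_
  · by_contra h0
    exact hg (hN g (hF.supp g h0))
  · exact h M hM _ ⟨fun g y => hF.cls g y, fun g => hF.ring g, fun g hg => by
      rw [← hF.supp (g : G) hg, Subgroup.orderOf_coe], hF.val⟩

/-- isomorphisms -/
theorem Good.congr {G : Type u} {Q : Type v} [Group G] [Group Q] [Finite G] (e : G ≃* Q) {r : ℕ} {x : G}
    (h : Good r (e x)) : Good r x := by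
  classical
  intro M hM F hF
  have := Fintype.ofFinite G
  have : Finite Q := Finite.of_equiv G e.toEquiv
  have := Fintype.ofFinite Q
  refine NN.quot (φ := e.toMonoidHom) e.surjective (F' := fun q => F (e.symm q)) (fun q => ?_) (h M hM _ ⟨?_, ?_, ?_, ?_⟩)
  · rw [Finset.sum_eq_single (e.symm q)]
    · intro g hg hne
      exact absurd (e.symm_apply_eq.2 (Finset.mem_filter.1 hg).2.symm).symm hne
    · intro hn
      exact absurd (Finset.mem_filter.2 ⟨Finset.mem_univ (e.symm q), e.apply_symm_apply q⟩) hn
  · intro g y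
    rw [map_mul, map_mul, map_inv]
    exact hF.cls _ _
  · exact fun g => hF.ring _
  · intro g hg
    rw [← hF.supp _ hg]
    exact (MulEquiv.orderOf_eq e.symm g).symm
  · rw [e.symm_apply_apply]
    exact hF.val

/-- transport of the conclusion -/
theorem Good.loc_of_equiv {G : Type u} {Q : Type v} [Group G] [Group Q] [Finite G] (e : G ≃* Q) {r : ℕ} {x : Q}
    (h : Good r x) (hx : orderOf x = r) (h4 : 4 ∣ (Subgroup.centralizer ({x} : Set Q)).index) : Loc G := by
  refine Good.loc (r := r) (x := e.symm x) (Good.congr e ?_) ?_ ?_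
  · rw [e.apply_symm_apply]
    exact h
  · rw [← hx]
    exact MulEquiv.orderOf_eq e.symm x
  · have e1 : Subgroup.centralizer ({e.symm x} : Set G) =
        (Subgroup.centralizer ({x} : Set Q)).comap e.toMonoidHom := by
      ext g
      rw [Subgroup.mem_comap, Subgroup.mem_centralizer_singleton_iff, Subgroup.mem_centralizer_singleton_iff]
      constructor
      · intro h1
        have h2 := congrArg e h1
        rw [map_mul, map_mul, e.apply_symm_apply] at h2
        exact h2
      · intro h1
        apply e.injective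
        rw [map_mul, map_mul, e.apply_symm_apply]
        exact h1
    rw [e1, Subgroup.index_comap_of_surjective _ e.surjective]
    exact h4

/-- the quotient of the centralizer of an involution -/
theorem Good.of_cent {G : Type u} [Group G] [Finite G] {w : G} (hw : orderOf w = 2) {Q : Type v} [Group Q]
    (φ : ↥(Subgroup.centralizer ({w} : Set G)) →* Q) (hφ : Function.Surjective φ)
    (hk : ∀ c, φ c = 1 → c = 1 ∨ (c : G) = w) {r : ℕ} (hr : Odd r)
    {x : ↥(Subgroup.centralizer ({w} : Set G))} (h : Good r (φ x)) : Good r (x : G) := by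
  classical
  intro M hM F hF
  have hww : w * w = 1 := by rw [← pow_two, ← hw, pow_orderOf_eq_one]
  have hw1 : w ≠ 1 := by
    rintro rfl
    rw [orderOf_one] at hw
    omega
  have hwr : w ^ r = w := by
    obtain ⟨k, rfl⟩ := hr
    rw [pow_add, pow_mul, pow_two, hww, one_pow, one_mul, pow_one]
  have hP : IsPGroup 2 (Subgroup.zpowers w) := by
    refine IsPGroup.of_card (n := 1) ?_
    rw [Nat.card_zpowers, hw, pow_one]
  have hPC : Subgroup.zpowers w ≤ Subgroup.centralizer (Subgroup.zpowers w : Set G) := by
    rw [Subgroup.zpowers_le, Subgroup.mem_centralizer_iff]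
    rintro _ ⟨k, rfl⟩
    exact (Commute.refl w).zpow_left k
  have hC : Subgroup.centralizer (Subgroup.zpowers w : Set G) = Subgroup.centralizer ({w} : Set G) := by
    rw [Subgroup.zpowers_eq_closure, Subgroup.centralizer_closure]
  refine NN.brauer hM hP hPC hF.cls hF.ring ?_
  have key : NN M (fun h : ↥(Subgroup.centralizer ({w} : Set G)) => F (h : G)) := by
    have := Fintype.ofFinite ↥(Subgroup.centralizer ({w} : Set G))
    have : Finite Q := Finite.of_surjective φ hφ
    have := Fintype.ofFinite Q
    have hcomm : ∀ c : ↥(Subgroup.centralizer ({w} : Set G)), (c : G) * w = w * c := fun c =>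
      Subgroup.mem_centralizer_singleton_iff.1 c.2
    have hwc : w ∈ Subgroup.centralizer ({w} : Set G) := Subgroup.mem_centralizer_singleton_iff.2 rfl
    refine NN.quot hφ (F' := fun q => ∑ g ∈ Finset.univ.filter (fun g => φ g = q), F (g : G)) (fun q => rfl)
      (h M hM _ ⟨?_, ?_, ?_, ?_⟩)
    · intro q y
      obtain ⟨c, rfl⟩ := hφ q
      refine Finset.sum_bij' (fun g _ => c⁻¹ * g * c) (fun g _ => c * g * c⁻¹) ?_ ?_ ?_ ?_ ?_
      · intro g hg
        rw [Finset.mem_filter] at hg ⊢
        refine ⟨Finset.mem_univ _, ?_⟩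
        rw [map_mul, map_mul, map_inv, hg.2]
        group
      · intro g hg
        rw [Finset.mem_filter] at hg ⊢
        refine ⟨Finset.mem_univ _, ?_⟩
        rw [map_mul, map_mul, map_inv, hg.2]
      · intro g _; group
      · intro g _; group
      · intro g _
        have h1 := hF.cls ((c : G)⁻¹) (g : G)
        rw [inv_inv] at h1
        exact h1.symm
    · exact fun q => memLocalRing_sum hM _ _ fun g _ => hF.ring _
    · intro q hq
      obtain ⟨g, hg, hg0⟩ := Finset.exists_ne_zero_of_sum_ne_zero hq
      have hgq : φ g = q := (Finset.mem_filter.1 hg).2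
      have hgr : orderOf (g : G) = r := hF.supp _ hg0
      rw [← hgr, ← hgq, Subgroup.orderOf_coe]
      refine orderOf_eq_orderOf_iff.2 fun k => ?_
      constructor
      · intro h1
        rw [← map_pow] at h1
        rcases hk _ h1 with h2 | h2
        · exact h2
        · exfalso
          have h3 : (((g ^ k : ↥(Subgroup.centralizer ({w} : Set G))) : G)) ^ r = 1 := by
            rw [Subgroup.coe_pow, ← pow_mul, mul_comm, pow_mul, ← hgr, pow_orderOf_eq_one, one_pow]
          rw [h2, hwr] at h3
          exact hw1 h3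
      · intro h1
        rw [← map_pow, h1, map_one]
    · have hxr : orderOf (x : G) = r := hF.order hM
      have h1 : ∑ g ∈ Finset.univ.filter (fun g => φ g = φ x), F (g : G) = F (x : G) := by
        rw [Finset.sum_eq_single x]
        · intro g hg hne
          by_contra h0
          have hgx : φ (g * x⁻¹) = 1 := by
            rw [map_mul, map_inv, (Finset.mem_filter.1 hg).2, mul_inv_cancel]
          rcases hk _ hgx with h2 | h2
          · exact hne (mul_inv_eq_one.1 h2)
          · have h3 : (g : G) = w * x := by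
              have h5 : (g : G) * (x : G)⁻¹ = w := h2
              exact mul_inv_eq_iff_eq_mul.1 h5
            have h4 : ((g : G)) ^ r = 1 := by rw [← hF.supp _ h0, pow_orderOf_eq_one]
            rw [h3, (show Commute w (x : G) from (hcomm x).symm).mul_pow, hwr] at h4
            rw [← hxr, pow_orderOf_eq_one, mul_one] at h4
            exact hw1 h4
        · intro hn
          exact (hn (Finset.mem_filter.2 ⟨Finset.mem_univ x, rfl⟩)).elim
      change ¬ MemLocalIdeal M (∑ g ∈ Finset.univ.filter (fun g => φ g = φ x), F (g : G))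
      rw [h1]
      exact hF.val
  rw [← hC] at key
  exact key

end Cfsg.Agent.H287.Blk
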