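import Cfsg.Agent.H287.Blk.MTw
import Cfsg.Agent.BpSpor.CoThreeCent
import Cfsg.Agent.SporRec.Co3.Model

/-!
# `Co3` : an element of order three whose class function is not nilpotent modulo two (helper287)
-/

set_option autoImplicit false

open Cfsg

namespace Cfsg.Agent.H287.Blk.CoThree

open Cfsg.Agent.SigZero.CoThreeB
open Cfsg.Agent.CpAutCo3.MTw (ker_cases wC wC_sq ee)
open Cfsg.Agent.SporRec.Co3.Chain (G3)
open Cfsg.Agent.H652.Four

theorem exists_x : ∃ b : C, b ^ 3 = 1 ∧ proj b = MTw.x := by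
  obtain ⟨g, hg⟩ := proj_surj MTw.x
  have h1 : proj (g ^ 3) = 1 := by rw [map_pow, hg, MTw.x_cube]
  have h2 : g ^ 3 * g ^ 3 = 1 := by
    rcases ker_cases h1 with h | h
    · rw [h, one_mul]
    · rw [h, wC_sq]
  refine ⟨g ^ 4, ?_, ?_⟩
  · calc (g ^ 4) ^ 3 = (g ^ 3 * g ^ 3) * (g ^ 3 * g ^ 3) := by group
      _ = 1 := by rw [h2, one_mul]
  · rw [map_pow, hg, pow_succ, MTw.x_cube, one_mul]

noncomputable def x : C := exists_x.choose
theorem x_cube : x ^ 3 = 1 := exists_x.choose_spec.1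
theorem proj_x : proj x = MTw.x := exists_x.choose_spec.2

theorem x_ne : x ≠ 1 := by
  intro h
  apply MTw.x_ne
  rw [← proj_x, h, map_one]

theorem orderOf_wK : orderOf wK = 2 := orderOf_eq_prime (by rw [pow_two]; exact wK_sq) wK_ne

instance finG : Finite G3 := Nat.finite_of_card_ne_zero (by rw [SporRec.Co3.Chain.isCo3_G3.2]; norm_num)

instance finK : Finite K := Finite.of_equiv _ ee.symm.toEquiv

theorem goodK : Blk.Good 3 (x : K) := by
  refine Blk.Good.of_cent orderOf_wK proj proj_surj (fun c hc => ker_proj hc) (by decide) ?_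
  rw [proj_x]
  exact MTw.good

theorem good : Blk.Good 3 (ee (x : K)) := by
  refine Blk.Good.congr ee.symm ?_
  rw [ee.symm_apply_apply]
  exact goodK

theorem orderOf_x : orderOf (ee (x : K)) = 3 := by
  rw [MulEquiv.orderOf_eq, Subgroup.orderOf_coe]
  exact orderOf_eq_prime x_cube x_ne

theorem index : 4 ∣ (Subgroup.centralizer ({ee (x : K)} : Set G3)).index := by
  refine Blk.four_dvd_index 5 ?_ (BpSpor.CoThree.not_sixty_four orderOf_x)
  rw [SporRec.Co3.Chain.isCo3_G3.2]
  norm_num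

end Cfsg.Agent.H287.Blk.CoThree

namespace Cfsg.Agent.H287.Blk

open Cfsg.Agent.H652.Four

universe u

theorem loc_Co3 {S : Type u} [Group S] [Finite S] (h : Cfsg.Spor.IsoCo3 S) : Loc S := by
  obtain ⟨e⟩ := h
  exact CoThree.good.loc_of_equiv (e.trans SporRec.Co3.Model.equivCo3.symm) CoThree.orderOf_x CoThree.index

end Cfsg.Agent.H287.Blk
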