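import Cfsg.Agent.H287.Blk.Base

/-!
# Tools for `Good` (helper287)

* `Good.of_two_inv` : `P = ⟨y, s⟩` a group of order (at most) four generated by two commuting involutions;
* `unique_five` : a Sylow 5-subgroup of order five is unique in a group of order less than 120 if four divides the order
  of its centralizer;
* `card_mul_le` : an orbit of length at least `n`.
-/

set_option autoImplicit false

open Cfsg

namespace Cfsg.Agent.H287.Blk

universe u

theorem Good.of_two_inv {G : Type u} [Group G] [Finite G] {y s x : G} (hy : y * y = 1) (hs : s * s = 1)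
    (hys : y * s = s * y) {r : ℕ} (hr : Odd r) (hx : orderOf x = r) (hxy : x * y = y * x) (hxs : x * s = s * x)
    (h : ∀ g : G, g * y = y * g → g * s = s * g → orderOf g = r → g ∈ Subgroup.zpowers x) : Good r x := by
  have hz : ∀ a ∈ ({y, s} : Set G), ∀ b ∈ ({y, s} : Set G), a * b = b * a := by
    rintro a (rfl | rfl) b (rfl | rfl)
    · rfl
    · exact hys
    · exact hys.symm
    · rfl
  have hcl : Subgroup.centralizer (Subgroup.closure ({y, s} : Set G) : Set G) =
      Subgroup.centralizer ({y, s} : Set G) := Subgroup.centralizer_closure _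
  have hPC : Subgroup.closure ({y, s} : Set G) ≤
      Subgroup.centralizer (Subgroup.closure ({y, s} : Set G) : Set G) := by
    rw [hcl, Subgroup.closure_le]
    intro c hc
    exact Subgroup.mem_centralizer_iff.2 fun d hd => hz d hd c hc
  have hP : IsPGroup 2 (Subgroup.closure ({y, s} : Set G)) := by
    intro g
    refine ⟨1, ?_⟩
    obtain ⟨g, hg⟩ := g
    rw [Subtype.ext_iff]
    change g ^ 2 ^ 1 = 1
    rw [pow_one]
    refine Subgroup.closure_induction (p := fun g _ => g ^ 2 = 1) ?_ ?_ ?_ ?_ hg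
    · rintro z (h | h)
      · rw [h, pow_two]; exact hy
      · rw [h, pow_two]; exact hs
    · exact one_pow 2
    · intro a b ha hb h1 h2
      have hab : Commute a b := Subgroup.mem_centralizer_iff.1 (hPC hb) a ha
      rw [hab.mul_pow, h1, h2, one_mul]
    · intro a _ h1
      rw [inv_pow, h1, inv_one]
  refine Good.of_cyclic hP hPC hr hx ?_ ?_
  · rw [hcl, Subgroup.mem_centralizer_iff]
    rintro z (h | h)
    · rw [h]; exact hxy.symm
    · rw [h]; exact hxs.symm
  · rw [hcl]
    intro g hg h3
    rw [Subgroup.mem_centralizer_iff] at hg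
    exact h g (hg y (Or.inl rfl)).symm (hg s (Or.inr rfl)).symm h3

theorem unique_five {G : Type*} [Group G] [Finite G] {C : Subgroup G} {x : G} (hxC : x ∈ C) (hx : orderOf x = 5)
    (h4 : 4 ∣ Nat.card ↥(C ⊓ Subgroup.centralizer ({x} : Set G))) (hlt : Nat.card C < 120)
    (h25 : ¬ 25 ∣ Nat.card C) : ∀ g ∈ C, orderOf g = 5 → g ∈ Subgroup.zpowers x := by
  have hp5 : Fact (Nat.Prime 5) := ⟨Nat.prime_five⟩
  set X : C := ⟨x, hxC⟩ with hX
  have hXo : orderOf X = 5 := by rw [← Subgroup.orderOf_coe]; exact hx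
  have hcX : Nat.card (Subgroup.zpowers X) = 5 ^ 1 := by rw [Nat.card_zpowers, hXo, pow_one]
  obtain ⟨S, hS⟩ := (IsPGroup.of_card hcX).exists_le_sylow
  -- the Sylow subgroup is cyclic of order five
  have hSc : Nat.card S = 5 := by
    obtain ⟨n, hn⟩ := IsPGroup.iff_card.1 S.isPGroup'
    have h1 : 5 ∣ Nat.card S := by
      have := Subgroup.card_dvd_of_le hS
      rwa [hcX, pow_one] at this
    have h2 : Nat.card S ∣ Nat.card C := Subgroup.card_subgroup_dvd_card _
    have h3 : n < 2 := by
      by_contra h4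
      apply h25
      refine dvd_trans ?_ h2
      rw [hn]
      exact pow_dvd_pow 5 (by omega : 2 ≤ n)
    interval_cases n
    · rw [hn] at h1; norm_num at h1
    · rw [hn, pow_one]
  have hSe : (S : Subgroup C) = Subgroup.zpowers X := by
    refine (Subgroup.eq_of_le_of_card_ge hS ?_).symm
    rw [hcX]
    exact le_of_eq hSc
  -- the normalizer
  have h20 : 20 ∣ Nat.card (Subgroup.normalizer ((S : Subgroup C) : Set C)) := by
    have h5 : 5 ∣ Nat.card (Subgroup.normalizer ((S : Subgroup C) : Set C)) := by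
      have h1 := Subgroup.card_dvd_of_le (Subgroup.le_normalizer (H := (S : Subgroup C)))
      have h2 : Nat.card (S : Subgroup C) = 5 := hSc
      rwa [h2] at h1
    have h4' : 4 ∣ Nat.card (Subgroup.normalizer ((S : Subgroup C) : Set C)) := by
      refine dvd_trans h4 ?_
      have h1 : (C ⊓ Subgroup.centralizer ({x} : Set G)) ≤
          (Subgroup.normalizer ((S : Subgroup C) : Set C)).map C.subtype := by
        rintro g ⟨hg1, hg2⟩
        refine ⟨⟨g, hg1⟩, ?_, rfl⟩
        have h3 : (⟨g, hg1⟩ : C) * X = X * ⟨g, hg1⟩ :=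
          Subtype.ext (Subgroup.mem_centralizer_singleton_iff.1 hg2)
        rw [hSe]
        refine SetLike.mem_coe.1 (Subgroup.centralizer_le_normalizer _ ?_)
        rw [Subgroup.mem_centralizer_iff]
        rintro _ ⟨k, rfl⟩
        exact ((show Commute (⟨g, hg1⟩ : C) X from h3).zpow_right k).eq.symm
      have h2 := Subgroup.card_dvd_of_le h1
      rwa [Nat.card_congr (Subgroup.equivMapOfInjective _ C.subtype C.subtype_injective).toEquiv.symm] at h2
    exact Nat.Coprime.mul_dvd_of_dvd_of_dvd (m := 4) (n := 5) (by norm_num) h4' h5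
  have hn1 : Nat.card (Sylow 5 C) = 1 := by
    have h1 : Nat.card (Sylow 5 C) = (Subgroup.normalizer ((S : Subgroup C) : Set C)).index := S.card_eq_index_normalizer
    have h2 := Subgroup.card_mul_index (Subgroup.normalizer ((S : Subgroup C) : Set C))
    rw [← h1] at h2
    have h3 := card_sylow_modEq_one 5 C
    obtain ⟨k, hk⟩ := h20
    rw [hk] at h2
    have h4 : Nat.card (Sylow 5 C) < 6 := by
      by_contra h5
      push Not at h5
      have hk0 : 0 < k := by
        rcases Nat.eq_zero_or_pos k with h0 | h0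
        · rw [h0, mul_zero] at hk
          exact absurd hk Nat.card_pos.ne'
        · exact h0
      have : 20 * 1 * 6 ≤ 20 * k * Nat.card (Sylow 5 C) := Nat.mul_le_mul (Nat.mul_le_mul_left 20 hk0) h5
      omega
    have h6 : Nat.card (Sylow 5 C) % 5 = 1 % 5 := h3
    have h7 : 0 < Nat.card (Sylow 5 C) := Nat.card_pos
    omega
  intro g hg hgo
  have hGo : orderOf (⟨g, hg⟩ : C) = 5 := by rw [← Subgroup.orderOf_coe]; exact hgo
  have hcG : Nat.card (Subgroup.zpowers (⟨g, hg⟩ : C)) = 5 ^ 1 := by rw [Nat.card_zpowers, hGo, pow_one]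
  obtain ⟨T, hT⟩ := (IsPGroup.of_card hcG).exists_le_sylow
  have hTS : T = S := by
    have := (Nat.card_eq_one_iff_unique.1 hn1).1
    exact Subsingleton.elim T S
  have h1 : (⟨g, hg⟩ : C) ∈ Subgroup.zpowers X := by
    rw [← hSe, ← hTS]
    exact hT (Subgroup.mem_zpowers _)
  obtain ⟨k, hk⟩ := h1
  exact ⟨k, congrArg Subtype.val hk⟩

/-- an orbit with at least `n` points -/
theorem card_mul_le {G : Type*} [Group G] [Finite G] {C : Subgroup G} {s : G} {n : ℕ} (k : Fin n → G)
    (hk : ∀ i, k i ∈ C) (hd : Function.Injective fun i => k i * s * (k i)⁻¹) :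
    n * Nat.card ↥(C ⊓ Subgroup.centralizer ({s} : Set G)) ≤ Nat.card C := by
  have h1 : Nat.card (Fin n × ↥(C ⊓ Subgroup.centralizer ({s} : Set G))) ≤ Nat.card C := by
    refine Nat.card_le_card_of_injective
      (fun p => (⟨k p.1 * (p.2 : G), mul_mem (hk _) p.2.2.1⟩ : C)) ?_
    rintro ⟨i, a⟩ ⟨j, b⟩ hab
    have hab' : k i * (a : G) = k j * b := congrArg Subtype.val hab
    have ha : (a : G) * s = s * a := Subgroup.mem_centralizer_singleton_iff.1 a.2.2
    have hb : (b : G) * s = s * b := Subgroup.mem_centralizer_singleton_iff.1 b.2.2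
    have h2 : ∀ (c a : G), a * s = s * a → c * s * c⁻¹ = c * a * s * (c * a)⁻¹ := by
      intro c a h
      have : c * a * s * (c * a)⁻¹ = c * (a * s) * a⁻¹ * c⁻¹ := by group
      rw [this, h]
      group
    have hij : i = j := by
      apply hd
      change k i * s * (k i)⁻¹ = k j * s * (k j)⁻¹
      rw [h2 (k i) _ ha, h2 (k j) _ hb, hab']
    subst hij
    rw [Prod.mk.injEq]
    exact ⟨rfl, Subtype.ext (mul_left_cancel hab')⟩
  rwa [Nat.card_prod, Nat.card_eq_fintype_card, Fintype.card_fin] at h1

end Cfsg.Agent.H287.Blk
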